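import Mathlib.RingTheory.AdicCompletion.Functoriality
import Mathlib.RingTheory.QuasiFinite.Basic
import Mathlib.RingTheory.Filtration
import Mathlib.AlgebraicGeometry.Morphisms.QuasiFinite
import Mathlib.AlgebraicGeometry.Fiber
import Mathlib.AlgebraicGeometry.Morphisms.Finite
import Mathlib.AlgebraicGeometry.Morphisms.UniversallyClosed
import Mathlib.Topology.JacobsonSpace
import Groth.Prelude.Def_SGA1

/-! Local schemes at points of a finite closed fibre over a complete local ring. -/

set_option autoImplicit false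
set_option linter.style.haveILetI false
set_option backward.isDefEq.respectTransparency.types false

universe u

open CategoryTheory CategoryTheory.Limits AlgebraicGeometry IsLocalRing TensorProduct

namespace Groth.L27.Submersive

section Algebra

variable {A : Type u} [CommRing A] (I : Ideal A)

theorem mem_smul_top_pi {n : ℕ} (m : ℕ) (x : Fin n → A) :
    x ∈ (I ^ m • ⊤ : Submodule A (Fin n → A)) ↔ ∀ i, x i ∈ I ^ m := by
  classical
  constructor
  · intro h i
    induction h using Submodule.smul_induction_on' with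
    | smul r hr y _ => exact Ideal.mul_mem_right (y i) _ hr
    | add y _ z _ hy hz => exact Submodule.add_mem _ hy hz
  · intro h
    rw [pi_eq_sum_univ x]
    exact Submodule.sum_mem _ fun i _ => Submodule.smul_mem_smul (h i) trivial

theorem isPrecomplete_pi [IsPrecomplete I A] (n : ℕ) : IsPrecomplete I (Fin n → A) := by
  refine ⟨fun f hf => ?_⟩
  have h : ∀ i : Fin n, ∃ L, ∀ k, f k i ≡ L [SMOD (I ^ k • ⊤ : Submodule A A)] := fun i =>
    IsPrecomplete.prec (I := I) (M := A) inferInstance fun {a b} hab => by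
      have h1 := (mem_smul_top_pi I a _).1 (SModEq.sub_mem.1 (hf hab)) i
      rw [SModEq.sub_mem, smul_eq_mul, Ideal.mul_top]
      exact h1
  choose L hL using h
  refine ⟨L, fun k => SModEq.sub_mem.2 ((mem_smul_top_pi I k _).2 fun i => ?_)⟩
  have h2 := hL i k
  rw [SModEq.sub_mem, smul_eq_mul, Ideal.mul_top] at h2
  exact h2

/-- complete Nakayama -/
theorem finite_of_quotient [IsPrecomplete I A] (M : Type u) [AddCommGroup M] [Module A M] [IsHausdorff I M]
    [Module.Finite A (M ⧸ (I • ⊤ : Submodule A M))] : Module.Finite A M := by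
  obtain ⟨n, s, hs⟩ := Module.Finite.exists_fin (R := A) (M := M ⧸ (I • ⊤ : Submodule A M))
  choose t ht using fun i => Submodule.mkQ_surjective (I • ⊤ : Submodule A M) (s i)
  haveI := isPrecomplete_pi I n
  let f : (Fin n → A) →ₗ[A] M := Fintype.linearCombination A t
  refine Module.Finite.of_surjective f (surjective_of_mkQ_comp_surjective (I := I) ?_)
  rw [← LinearMap.range_eq_top, LinearMap.range_comp, show f.range = Submodule.span A (Set.range t) from
    Fintype.range_linearCombination A t, Submodule.map_span, ← Set.range_comp]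
  exact (congrArg (fun z => Submodule.span A (Set.range z)) (funext ht)).trans hs

/-- a quasi-finite local algebra over a complete local ring is finite -/
theorem finite_of_quasiFinite (A O : Type u) [CommRing A] [IsLocalRing A] [IsPrecomplete (maximalIdeal A) A]
    [CommRing O] [IsLocalRing O] [IsNoetherianRing O] [Algebra A O] [IsLocalHom (algebraMap A O)]
    [Algebra.QuasiFinite A O] : Module.Finite A O := by
  let J := (maximalIdeal A).map (algebraMap A O)
  have hJ : J ≠ ⊤ := fun h => (maximalIdeal.isMaximal O).ne_top (top_le_iff.1 (h ▸ Ideal.map_le_iff_le_comap.2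
    fun a ha => map_nonunit (algebraMap A O) a ha))
  haveI : IsHausdorff J O := by
    refine ⟨fun x hx => ?_⟩
    have h : x ∈ ⨅ k : ℕ, J ^ k := Ideal.mem_iInf.2 fun k => by
      have h1 := SModEq.zero.1 (hx k)
      rwa [smul_eq_mul, Ideal.mul_top] at h1
    rwa [Ideal.iInf_pow_eq_bot_of_isLocalRing J hJ] at h
  haveI : IsHausdorff (maximalIdeal A) O := IsHausdorff.map_algebraMap_iff.1 (‹IsHausdorff J O› : IsHausdorff ((maximalIdeal A).map (algebraMap A O)) O)
  letI : Field (A ⧸ maximalIdeal A) := Ideal.Quotient.field _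
  haveI : Module.Finite (A ⧸ maximalIdeal A) ((A ⧸ maximalIdeal A) ⊗[A] O) :=
    Module.Finite.of_quasiFinite
  haveI : Module.Finite A ((A ⧸ maximalIdeal A) ⊗[A] O) := Module.Finite.trans (A ⧸ maximalIdeal A) _
  haveI : Module.Finite A (O ⧸ (maximalIdeal A • ⊤ : Submodule A O)) :=
    Module.Finite.equiv (TensorProduct.quotTensorEquivQuotSMul O (maximalIdeal A))
  exact finite_of_quotient (maximalIdeal A) O

end Algebra

variable {A : Type u} [CommRing A] [IsLocalRing A] [IsNoetherianRing A] [IsAdicComplete (maximalIdeal A) A]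
  {S' : Scheme.{u}} (g : S' ⟶ Spec (CommRingCat.of A))

theorem isFinite_fromSpecStalk [LocallyOfFiniteType g] (hfin : (g.base ⁻¹' {closedPoint A}).Finite) (s' : S')
    (hs : g s' = closedPoint A) : IsFinite (S'.fromSpecStalk s' ≫ g) := by
  haveI : IsLocallyNoetherian S' := LocallyOfFiniteType.isLocallyNoetherian g
  have hqf : g.QuasiFiniteAt s' := by
    rw [Scheme.Hom.quasiFiniteAt_iff_isOpen_singleton_asFiber]
    haveI : Finite ↥(g ⁻¹' {g s'}) := (hs ▸ hfin).to_subtype
    haveI : Finite (g.fiber (g s')) := Finite.of_equiv _ (g.fiberHomeo (g s')).toEquiv.symm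
    exact isOpen_discrete _
  haveI := Scheme.Hom.quasiFiniteAt_iff.1 hqf
  obtain ⟨φ, hφ⟩ := Spec.map_surjective (S'.fromSpecStalk s' ≫ g)
  rw [← hφ] at this ⊢
  rw [HasRingHomProperty.Spec_iff (P := @LocallyQuasiFinite)] at this
  rw [IsFinite.SpecMap_iff]
  letI := φ.hom.toAlgebra
  haveI : Algebra.QuasiFinite A (S'.presheaf.stalk s') := ‹φ.hom.QuasiFinite›
  haveI : IsLocalHom (algebraMap A (S'.presheaf.stalk s')) := by
    refine ((IsLocalRing.local_hom_TFAE (algebraMap A (S'.presheaf.stalk s'))).out 0 4).2 ?_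
    have h1 : (Spec.map φ) (closedPoint (S'.presheaf.stalk s')) = closedPoint A := by
      rw [hφ, Scheme.Hom.comp_apply, S'.fromSpecStalk_closedPoint]; exact hs
    exact congrArg PrimeSpectrum.asIdeal h1
  exact RingHom.finite_algebraMap.2 (finite_of_quasiFinite A (S'.presheaf.stalk s'))

theorem univSubmersive [LocallyOfFiniteType g] [Surjective g] (hfin : (g.base ⁻¹' {closedPoint A}).Finite)
    (hsp : ∀ t : S', ∃ s' : S', g.base s' = closedPoint A ∧ t ⤳ s') : SGA1.UnivSubmersive g := by
  intro P T p q q' h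
  haveI : Surjective q' := MorphismProperty.of_isPullback (P := @Surjective) h.flip inferInstance
  refine Topology.isQuotientMap_iff_isClosed.2 ⟨q'.surjective, fun E => ⟨fun hE => hE.preimage q'.continuous, fun hE => ?_⟩⟩
  haveI : Finite ↥(g.base ⁻¹' {closedPoint A}) := hfin.to_subtype
  let r : ∀ s : ↥(g.base ⁻¹' {closedPoint A}), pullback p (S'.fromSpecStalk s.1) ⟶ T := fun s =>
    pullback.fst p (S'.fromSpecStalk s.1) ≫ q'
  have hr : ∀ s, IsFinite (r s) := fun s => by
    haveI := isFinite_fromSpecStalk g hfin s.1 s.2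
    exact MorphismProperty.of_isPullback (P := @IsFinite)
      ((IsPullback.of_hasPullback p (S'.fromSpecStalk s.1)).paste_horiz h).flip inferInstance
  have hEeq : E = ⋃ s, (r s).base '' ((pullback.fst p (S'.fromSpecStalk s.1)).base ⁻¹' (q'.base ⁻¹' E)) := by
    ext t
    simp only [Set.mem_iUnion, Set.mem_image, Set.mem_preimage]
    constructor
    · intro ht
      obtain ⟨z, rfl⟩ := q'.surjective t
      obtain ⟨s', hs', hsp'⟩ := hsp (p z)
      obtain ⟨w, hw⟩ : p z ∈ Set.range (S'.fromSpecStalk s') := by
        rw [Scheme.range_fromSpecStalk]; exact hsp'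
      obtain ⟨v, hv, -⟩ := Scheme.Pullback.exists_preimage_pullback (f := p) (g := S'.fromSpecStalk s') z w hw.symm
      refine ⟨⟨s', hs'⟩, v, ?_, ?_⟩
      · rw [hv]; exact ht
      · show (pullback.fst p (S'.fromSpecStalk s') ≫ q') v = _
        rw [Scheme.Hom.comp_apply, hv]
    · rintro ⟨s, v, hv, rfl⟩
      exact hv
  rw [hEeq]
  refine isClosed_iUnion_of_finite fun s => ?_
  haveI := hr s
  exact (r s).isClosedMap _ (hE.preimage (pullback.fst p (S'.fromSpecStalk s.1)).continuous)

end Groth.L27.Submersive
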